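import Mathlib.CategoryTheory.Triangulated.TStructure.Heart
import Mathlib.CategoryTheory.Triangulated.TStructure.AbelianSubcategory
import Mathlib.CategoryTheory.Triangulated.TStructure.TruncLEGT
import Mathlib.CategoryTheory.Triangulated.HomologicalFunctor
import Mathlib.Algebra.Homology.ShortComplex.ShortExact
import Mathlib.CategoryTheory.Abelian.Exact
import Mathlib.CategoryTheory.Abelian.Refinements

/-!
# The heart of a t-structure is abelian
-/

universe v' u' v u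

open CategoryTheory CategoryTheory.Limits CategoryTheory.Pretriangulated
open CategoryTheory.Triangulated
open ZeroObject

namespace Groth.Agent.Lib.TStructureHeart.Basic

variable {C : Type u} [Category.{v} C] [Preadditive C] [HasZeroObject C] [HasShift C ℤ]
  [∀ n : ℤ, (shiftFunctor C n).Additive] [Pretriangulated C] (t : TStructure C)
  {H : Type u'} [Category.{v'} H] [Preadditive H] [t.Heart H]

lemma exists_heartObj (W : C) [t.IsLE W 0] [t.IsGE W 0] :
    ∃ A : H, Nonempty (t.ιHeart.obj A ≅ W) := by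
  have h : (t.ιHeart (H := H)).essImage W := by
    rw [t.essImage_ιHeart H, t.mem_heart_iff]
    exact ⟨inferInstance, inferInstance⟩
  exact h

lemma hom_shift_eq_zero ⦃X Y : H⦄ ⦃n : ℤ⦄ (f : t.ιHeart.obj X ⟶ (t.ιHeart.obj Y)⟦n⟧)
    (hn : n < 0) : f = 0 := by
  have := t.isGE_shift (t.ιHeart.obj Y) 0 n (-n) (by lia)
  exact t.zero f 0 (-n) (by lia)

lemma admissible [IsTriangulated C] :
    AbelianSubcategory.admissibleMorphism (t.ιHeart (H := H)) = ⊤ := by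
  ext X₁ X₂ f₁
  refine ⟨fun _ => trivial, fun _ X₃ f₂ f₃ hT => ?_⟩
  have h1 : t.IsLE ((t.ιHeart.obj X₁)⟦(1 : ℤ)⟧) (-1) := t.isLE_shift _ 0 1 (-1)
  have h1' : t.IsGE ((t.ιHeart.obj X₁)⟦(1 : ℤ)⟧) (-1) := t.isGE_shift _ 0 1 (-1)
  have h2 : t.IsGE (t.ιHeart.obj X₂) (-1) := t.isGE_of_ge _ (-1) 0
  have h1'' : t.IsLE ((t.ιHeart.obj X₁)⟦(1 : ℤ)⟧) 0 := t.isLE_of_le _ (-1) 0
  have hle : t.IsLE X₃ 0 := t.isLE₂ _ (rot_of_distTriang _ hT) 0
    (inferInstanceAs (t.IsLE (t.ιHeart.obj X₂) 0)) h1''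
  have hge : t.IsGE X₃ (-1) := t.isGE₂ _ (rot_of_distTriang _ hT) (-1) h2 h1'
  have hN := t.triangleLEGE_distinguished (-1) 0 (by norm_num) X₃
  let K' := ((t.truncLE (-1)).obj X₃)⟦(-1 : ℤ)⟧
  have hK : t.IsLE K' 0 := t.isLE_shift _ (-1) (-1) 0
  have hK' : t.IsGE K' 0 := t.isGE_shift _ (-1) (-1) 0
  obtain ⟨K, ⟨eK⟩⟩ := exists_heartObj t (H := H) K'
  obtain ⟨Q, ⟨eQ⟩⟩ := exists_heartObj t (H := H) ((t.truncGE 0).obj X₃)
  let e1 : (t.ιHeart.obj K)⟦(1 : ℤ)⟧ ≅ (t.truncLE (-1)).obj X₃ :=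
    (shiftFunctor C (1 : ℤ)).mapIso eK ≪≫ (shiftEquiv C (1 : ℤ)).counitIso.app _
  refine ⟨K, Q, e1.hom ≫ (t.truncLEι (-1)).app X₃, (t.truncGEπ 0).app X₃ ≫ eQ.inv,
    eQ.hom ≫ (t.truncGEδLE (-1) 0 (by norm_num)).app X₃ ≫ e1.inv⟦(1 : ℤ)⟧', ?_⟩
  refine isomorphic_distinguished _ hN _ ?_
  refine Triangle.isoMk _ _ e1 (Iso.refl _) eQ ?_ ?_ ?_
  · exact (Category.comp_id _).trans rfl
  · change ((t.truncGEπ 0).app X₃ ≫ eQ.inv) ≫ eQ.hom = 𝟙 _ ≫ (t.truncGEπ 0).app X₃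
    simp
  · change (eQ.hom ≫ (t.truncGEδLE (-1) 0 _).app X₃ ≫ e1.inv⟦(1 : ℤ)⟧') ≫ e1.hom⟦(1 : ℤ)⟧' =
      eQ.hom ≫ (t.truncGEδLE (-1) 0 _).app X₃
    simp [← Functor.map_comp]

include t in
lemma hasFiniteProducts : HasFiniteProducts H := by
  have hz : HasZeroObject H := by
    obtain ⟨Z, ⟨e⟩⟩ := exists_heartObj t (H := H) (0 : C)
    refine ⟨⟨Z, (IsZero.iff_id_eq_zero Z).2 (t.ιHeart.map_injective ?_)⟩⟩
    exact ((isZero_zero C).of_iso e).eq_of_src _ _
  have : HasBinaryBiproducts H := ⟨fun X Y => by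
    have hT := binaryBiproductTriangle_distinguished (t.ιHeart.obj X) (t.ιHeart.obj Y)
    have hle : t.IsLE (t.ιHeart.obj X ⊞ t.ιHeart.obj Y) 0 :=
      t.isLE₂ _ hT 0 (inferInstanceAs (t.IsLE (t.ιHeart.obj X) 0))
        (inferInstanceAs (t.IsLE (t.ιHeart.obj Y) 0))
    have hge : t.IsGE (t.ιHeart.obj X ⊞ t.ιHeart.obj Y) 0 :=
      t.isGE₂ _ hT 0 (inferInstanceAs (t.IsGE (t.ιHeart.obj X) 0))
        (inferInstanceAs (t.IsGE (t.ιHeart.obj Y) 0))
    obtain ⟨W, ⟨e⟩⟩ := exists_heartObj t (H := H) (t.ιHeart.obj X ⊞ t.ιHeart.obj Y)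
    let b : BinaryBicone X Y :=
      { pt := W
        fst := t.ιHeart.preimage (e.hom ≫ biprod.fst)
        snd := t.ιHeart.preimage (e.hom ≫ biprod.snd)
        inl := t.ιHeart.preimage (biprod.inl ≫ e.inv)
        inr := t.ιHeart.preimage (biprod.inr ≫ e.inv)
        inl_fst := t.ιHeart.map_injective (by simp)
        inl_snd := t.ιHeart.map_injective (by simp)
        inr_fst := t.ιHeart.map_injective (by simp)
        inr_snd := t.ιHeart.map_injective (by simp) }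
    refine hasBinaryBiproduct_of_total b (t.ιHeart.map_injective ?_)
    simp only [b, Functor.map_add, Functor.map_comp, Functor.map_preimage, Functor.map_id,
      Category.assoc]
    rw [← Category.assoc biprod.fst, ← Category.assoc biprod.snd, ← Preadditive.comp_add, ← Preadditive.add_comp,
      biprod.total]
    simp⟩
  exact hasFiniteProducts_of_has_binary_and_terminal

include t in
theorem exists_abelian [IsTriangulated C] :
    ∃ a : Abelian H, @Abelian.toPreadditive H _ a = ‹Preadditive H› := by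
  have := hasFiniteProducts t (H := H)
  exact ⟨AbelianSubcategory.abelian (t.ιHeart (H := H)) (hom_shift_eq_zero t) (admissible t), rfl⟩

section Abelian

variable {A : Type u'} [Category.{v'} A] [Abelian A] [t.Heart A] [IsTriangulated C]

theorem shortExact_iff {X Y Z : A} (u : X ⟶ Y) (v : Y ⟶ Z) :
    (∃ huv : u ≫ v = 0, (ShortComplex.mk u v huv).ShortExact) ↔
      ∃ (w : t.ιHeart.obj Z ⟶ (t.ιHeart.obj X)⟦(1 : ℤ)⟧),
        Triangle.mk (t.ιHeart.map u) (t.ιHeart.map v) w ∈ distTriang C := by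
  constructor
  · rintro ⟨huv, h⟩
    have : Epi v := h.epi_g
    obtain ⟨X₁, i, δ, hT⟩ := AbelianSubcategory.exists_distinguished_triangle_of_epi
      (hom_shift_eq_zero t) (admissible t) v
    let e : X ≅ X₁ := h.fIsKernel.conePointUniqueUpToIso
      (AbelianSubcategory.isLimitKernelForkOfDistTriang (hom_shift_eq_zero t) i v δ hT)
    have he : e.hom ≫ i = u := IsLimit.conePointUniqueUpToIso_hom_comp h.fIsKernel
      (AbelianSubcategory.isLimitKernelForkOfDistTriang (hom_shift_eq_zero t) i v δ hT)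
      WalkingParallelPair.zero
    refine ⟨δ ≫ (t.ιHeart.map e.inv)⟦(1 : ℤ)⟧', isomorphic_distinguished _ hT _
      (Triangle.isoMk _ _ (t.ιHeart.mapIso e) (Iso.refl _) (Iso.refl _) ?_ ?_ ?_)⟩
    · change t.ιHeart.map u ≫ 𝟙 _ = t.ιHeart.map e.hom ≫ t.ιHeart.map i
      rw [Category.comp_id, ← Functor.map_comp, he]
    · change t.ιHeart.map v ≫ 𝟙 _ = 𝟙 _ ≫ t.ιHeart.map v
      rw [Category.comp_id, Category.id_comp]
    · change (δ ≫ (t.ιHeart.map e.inv)⟦(1 : ℤ)⟧') ≫ (t.ιHeart.map e.hom)⟦(1 : ℤ)⟧' = 𝟙 _ ≫ δ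
      simp [← Functor.map_comp]
  · rintro ⟨w, hT⟩
    have huv : u ≫ v = 0 := t.ιHeart.map_injective (by
      rw [Functor.map_comp, Functor.map_zero]
      exact comp_distTriang_mor_zero₁₂ _ hT)
    have hk := AbelianSubcategory.isLimitKernelForkOfDistTriang (hom_shift_eq_zero t) u v w hT
    have hc := AbelianSubcategory.isColimitCokernelCoforkOfDistTriang
      (hom_shift_eq_zero t) u v w hT
    have : Mono u := Fork.IsLimit.mono hk
    have : Epi v := Cofork.IsColimit.epi hc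
    exact ⟨huv, .mk' (ShortComplex.exact_of_f_is_kernel _ hk) inferInstance inferInstance⟩

variable (H0 : C ⥤ A) (e : H0 ⋙ t.ιHeart ≅ t.truncGE 0 ⋙ t.truncLE 0)

/-- The composite isomorphism `ι H⁰ ≅ τ≥0 τ≤0`. -/
noncomputable def e' : H0 ⋙ t.ιHeart ≅ t.truncLE 0 ⋙ t.truncGE 0 :=
  e ≪≫ (t.truncGELEIsoLEGE 0 0).symm

include e in
lemma additive : H0.Additive := by
  have : (H0 ⋙ t.ιHeart).Additive := Functor.additive_of_iso e.symm
  exact Functor.additive_of_comp_faithful H0 t.ιHeart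

include e in
lemma isIso_of_isIso_truncGE {X Y : C} (f : X ⟶ Y) [IsIso ((t.truncGE 0).map f)] :
    IsIso (H0.map f) := by
  have : IsIso ((H0 ⋙ t.ιHeart).map f) :=
    (NatIso.isIso_map_iff e f).2 (by dsimp; infer_instance)
  exact @isIso_of_fully_faithful _ _ _ _ t.ιHeart _ _ _ _ _ this

include e in
lemma isIso_of_isIso_truncLE {X Y : C} (f : X ⟶ Y) [IsIso ((t.truncLE 0).map f)] :
    IsIso (H0.map f) := by
  have : IsIso ((H0 ⋙ t.ιHeart).map f) :=
    (NatIso.isIso_map_iff (e' t H0 e) f).2 (by dsimp; infer_instance)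
  exact @isIso_of_fully_faithful _ _ _ _ t.ιHeart _ _ _ _ _ this

include e in
lemma mono_of_isGE {T : Triangle C} (hT : T ∈ distTriang C) (h₁ : t.IsGE T.obj₁ 0)
    (h₂ : t.IsGE T.obj₂ 0) (h₃ : t.IsGE T.obj₃ 0) : Mono (H0.map T.mor₁) := by
  have := additive t H0 e
  refine Preadditive.mono_of_cancel_zero _ fun {W} a ha => t.ιHeart.map_injective ?_
  rw [Functor.map_zero, ← cancel_mono (e.hom.app T.obj₁), zero_comp]
  refine t.to_truncLE_obj_ext ?_
  rw [zero_comp, ← cancel_mono (inv ((t.truncGEπ 0).app T.obj₁)), zero_comp]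
  have key : ((t.ιHeart.map a ≫ e.hom.app T.obj₁) ≫ (t.truncLEι 0).app _ ≫
      inv ((t.truncGEπ 0).app T.obj₁)) ≫ T.mor₁ = 0 := by
    have h := congrArg t.ιHeart.map ha
    simp only [Functor.map_zero, Functor.map_comp] at h
    have hn : (H0 ⋙ t.ιHeart).map T.mor₁ ≫ e.hom.app T.obj₂ =
      e.hom.app T.obj₁ ≫ _ := e.hom.naturality T.mor₁
    have h2 : inv ((t.truncGEπ 0).app T.obj₁) ≫ T.mor₁ =
        (t.truncGE 0).map T.mor₁ ≫ inv ((t.truncGEπ 0).app T.obj₂) := by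
      rw [IsIso.inv_comp_eq, ← Category.assoc, IsIso.eq_comp_inv]
      exact (t.truncGEπ 0).naturality T.mor₁
    have h3 : (t.truncLE 0).map ((t.truncGE 0).map T.mor₁) ≫
          (t.truncLEι 0).app ((t.truncGE 0).obj T.obj₂) =
        (t.truncLEι 0).app ((t.truncGE 0).obj T.obj₁) ≫ (t.truncGE 0).map T.mor₁ :=
      (t.truncLEι 0).naturality _
    dsimp only [Functor.comp_obj, Functor.comp_map] at hn
    simp only [Category.assoc, h2, Functor.id_obj, Functor.comp_obj]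
    rw [← reassoc_of% h3, ← reassoc_of% hn, reassoc_of% h, zero_comp]
  obtain ⟨l, hl⟩ := Triangle.coyoneda_exact₂ _ (inv_rot_of_distTriang _ hT) _ key
  have : l = 0 := by
    have := t.isGE_shift T.obj₃ 0 (-1) 1 (by norm_num)
    exact t.zero (Y := T.obj₃⟦(-1 : ℤ)⟧) l 0 1 (by norm_num)
  rw [this, zero_comp] at hl
  simp only [Category.assoc] at hl ⊢
  exact hl

include e in
lemma exact_of_isLE {T : Triangle C} (hT : T ∈ distTriang C) (h₁ : t.IsLE T.obj₁ 0)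
    (h₂ : t.IsLE T.obj₂ 0) (h₃ : t.IsLE T.obj₃ 0)
    (hz : H0.map T.mor₁ ≫ H0.map T.mor₂ = 0) :
    (ShortComplex.mk _ _ hz).Exact := by
  have := additive t H0 e
  -- the comparison map
  have hle : ∀ (W : C) [t.IsLE W 0], IsIso ((t.truncLEι 0).app ((t.truncGE 0).obj W)) :=
    fun W _ => inferInstance
  let p : ∀ (W : C) [t.IsLE W 0], W ⟶ t.ιHeart.obj (H0.obj W) := fun W _ =>
    (t.truncGEπ 0).app W ≫ inv ((t.truncLEι 0).app ((t.truncGE 0).obj W)) ≫ e.inv.app W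
  have hp : ∀ {W W' : C} [t.IsLE W 0] [t.IsLE W' 0] (f : W ⟶ W'),
      f ≫ p W' = p W ≫ t.ιHeart.map (H0.map f) := by
    intro W W' _ _ f
    have hn : e.inv.app W ≫ t.ιHeart.map (H0.map f) =
        (t.truncLE 0).map ((t.truncGE 0).map f) ≫ e.inv.app W' := (e.inv.naturality f).symm
    have h3 : inv ((t.truncLEι 0).app ((t.truncGE 0).obj W)) ≫
          (t.truncLE 0).map ((t.truncGE 0).map f) =
        (t.truncGE 0).map f ≫ inv ((t.truncLEι 0).app ((t.truncGE 0).obj W')) := by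
      rw [IsIso.inv_comp_eq, ← Category.assoc, IsIso.eq_comp_inv]
      exact (t.truncLEι 0).naturality ((t.truncGE 0).map f)
    simp only [p, Category.assoc, Functor.id_obj, hn, reassoc_of% h3]
    exact ((t.truncGEπ 0).naturality_assoc f _)
  have hext : ∀ (W : C) [t.IsLE W 0] {B : A} (a b : H0.obj W ⟶ B),
      p W ≫ t.ιHeart.map a = p W ≫ t.ιHeart.map b → a = b := by
    intro W _ B a b hab
    apply t.ιHeart.map_injective
    rw [← cancel_epi (e.inv.app W),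
      ← cancel_epi (inv ((t.truncLEι 0).app ((t.truncGE 0).obj W)))]
    exact t.from_truncGE_obj_ext (by simpa [p] using hab)
  let S := ShortComplex.mk (H0.map T.mor₁) (H0.map T.mor₂) hz
  change S.Exact
  obtain ⟨m, hm⟩ := Triangle.yoneda_exact₂ _ hT (p T.obj₂ ≫ t.ιHeart.map (cokernel.π S.f)) (by
    rw [reassoc_of% (hp T.mor₁), ← Functor.map_comp]
    simp [S])
  let m' : H0.obj T.obj₃ ⟶ cokernel S.f := t.ιHeart.preimage (e.hom.app T.obj₃ ≫
    (t.truncLEι 0).app _ ≫ t.descTruncGE m 0)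
  have hm' : cokernel.π S.f = S.g ≫ m' := by
    apply hext T.obj₂
    rw [hm, Functor.map_comp, ← reassoc_of% (hp T.mor₂)]
    simp [m', p]
  rw [ShortComplex.exact_iff_kernel_ι_comp_cokernel_π_zero, hm', kernel.condition_assoc, zero_comp]

lemma exact_of_iso_middle {X₁ X₂ X₂' X₃ Y₁ Y₃ : A} {f : X₁ ⟶ X₂} {g : X₂ ⟶ X₃} (w : f ≫ g = 0)
    (h : (ShortComplex.mk f g w).Exact) (a : X₁ ⟶ Y₁) (b : X₂ ⟶ X₂') (c : X₃ ⟶ Y₃)
    [IsIso b] [Mono c] {f' : Y₁ ⟶ X₂'} {g' : X₂' ⟶ Y₃} (w' : f' ≫ g' = 0)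
    (h₁ : a ≫ f' = f ≫ b) (h₂ : g ≫ c = b ≫ g') : (ShortComplex.mk f' g' w').Exact := by
  rw [ShortComplex.exact_iff_exact_up_to_refinements]
  intro W x hx
  obtain ⟨W', π, hπ, y, hy⟩ := h.exact_up_to_refinements (x ≫ inv b) (by
    rw [← cancel_mono c, zero_comp, Category.assoc, Category.assoc, h₂]
    simpa using hx)
  refine ⟨W', π, hπ, y ≫ a, ?_⟩
  dsimp at hy ⊢
  rw [Category.assoc, h₁, ← reassoc_of% hy]
  simp

include e in
lemma mono_of_isGE₃ {T : Triangle C} (hT : T ∈ distTriang C) (h₃ : t.IsGE T.obj₃ 0) :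
    Mono (H0.map T.mor₁) := by
  obtain ⟨X', i, δ, hX'⟩ :=
    distinguished_cocone_triangle₁ (t.descTruncGE T.mor₂ 0 : (t.truncGE 0).obj T.obj₂ ⟶ T.obj₃)
  have hY' : t.IsGE ((t.truncGE 0).obj T.obj₂) 0 := inferInstance
  have hX : t.IsGE X' 0 := by
    have := t.isGE_shift T.obj₃ 0 (-1) 1 (by norm_num)
    exact t.isGE₂ _ (inv_rot_of_distTriang _ hX') 0
      (show t.IsGE (T.obj₃⟦(-1 : ℤ)⟧) 0 from t.isGE_of_ge _ 0 1) hY'
  let oct := someOctahedron' (t.π_descTruncGE T.mor₂ 0)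
    (t.triangleLTGE_distinguished 0 T.obj₂) hX' hT
  have : IsIso ((t.truncGE 0).map oct.m₃) :=
    t.isIso₂_truncGE_map_of_isLE _ oct.mem (-1) 0 (by norm_num)
      (inferInstanceAs (t.IsLE ((t.truncLT 0).obj T.obj₂) (0 - 1)))
  have := isIso_of_isIso_truncGE t H0 e oct.m₃
  have := isIso_of_isIso_truncGE t H0 e ((t.truncGEπ 0).app T.obj₂)
  have : Mono (H0.map i) := mono_of_isGE t H0 e hX' hX hY' h₃
  have h : H0.map T.mor₁ ≫ H0.map ((t.truncGEπ 0).app T.obj₂) = H0.map oct.m₃ ≫ H0.map i := by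
    rw [← Functor.map_comp, ← Functor.map_comp]
    exact congrArg H0.map oct.comm₄.symm
  have : Mono (H0.map T.mor₁ ≫ H0.map ((t.truncGEπ 0).app T.obj₂)) := h ▸ mono_comp _ _
  exact mono_of_mono _ (H0.map ((t.truncGEπ 0).app T.obj₂))

include e in
lemma exact_of_isLE₁ {T : Triangle C} (hT : T ∈ distTriang C) (h₁ : t.IsLE T.obj₁ 0)
    (hz : H0.map T.mor₁ ≫ H0.map T.mor₂ = 0) : (ShortComplex.mk _ _ hz).Exact := by
  have := additive t H0 e
  obtain ⟨Z', g', δ, hZ'⟩ := distinguished_cocone_triangle (t.liftTruncLE T.mor₁ 0)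
  have hY : t.IsLE ((t.truncLE 0).obj T.obj₂) 0 := inferInstance
  have hZ : t.IsLE Z' 0 := by
    have := t.isLE_shift T.obj₁ 0 1 (-1) (by norm_num)
    exact t.isLE₂ _ (rot_of_distTriang _ hZ') 0 hY
      (show t.IsLE (T.obj₁⟦(1 : ℤ)⟧) 0 from t.isLE_of_le _ (-1) 0)
  let oct := someOctahedron (t.liftTruncLE_ι T.mor₁ 0) hZ'
    (t.triangleLEGE_distinguished 0 1 (by norm_num) T.obj₂) hT
  have : IsIso ((t.truncLE 0).map oct.m₁) :=
    t.isIso₁_truncLE_map_of_isGE _ oct.mem 0 1 (by norm_num)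
      (inferInstanceAs (t.IsGE ((t.truncGE 1).obj T.obj₂) 1))
  have := isIso_of_isIso_truncLE t H0 e oct.m₁
  have := isIso_of_isIso_truncLE t H0 e ((t.truncLEι 0).app T.obj₂)
  have w : H0.map (t.liftTruncLE T.mor₁ 0) ≫ H0.map g' = 0 := by
    rw [← Functor.map_comp]
    have h0 : t.liftTruncLE T.mor₁ 0 ≫ g' = 0 := comp_distTriang_mor_zero₁₂ _ hZ'
    rw [h0, Functor.map_zero]
  refine exact_of_iso_middle w (exact_of_isLE t H0 e hZ' h₁ hY hZ w) (𝟙 _)
    (H0.map ((t.truncLEι 0).app T.obj₂)) (H0.map oct.m₁) hz ?_ ?_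
  · rw [Category.id_comp, ← Functor.map_comp, t.liftTruncLE_ι]
  · rw [← Functor.map_comp, ← Functor.map_comp]
    exact congrArg H0.map oct.comm₁

include e in
theorem isHomological : H0.IsHomological := by
  have := additive t H0 e
  refine ⟨fun T hT => ?_⟩
  obtain ⟨U, v, w, hU⟩ := distinguished_cocone_triangle ((t.truncLEι 0).app T.obj₁ ≫ T.mor₁)
  let oct := someOctahedron rfl (t.triangleLEGE_distinguished 0 1 (by norm_num) T.obj₁) hT hU
  have hge : t.IsGE (((t.truncGE 1).obj T.obj₁)⟦(1 : ℤ)⟧) 0 :=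
    t.isGE_shift _ 1 1 0 (by norm_num)
  have : Mono (H0.map oct.m₃) := mono_of_isGE₃ t H0 e (rot_of_distTriang _ oct.mem) hge
  have w0 : H0.map ((t.truncLEι 0).app T.obj₁ ≫ T.mor₁) ≫ H0.map v = 0 := by
    rw [← Functor.map_comp]
    have h0 : ((t.truncLEι 0).app T.obj₁ ≫ T.mor₁) ≫ v = 0 := comp_distTriang_mor_zero₁₂ _ hU
    rw [h0, Functor.map_zero]
  exact exact_of_iso_middle w0
    (exact_of_isLE₁ t H0 e hU (inferInstanceAs (t.IsLE ((t.truncLE 0).obj T.obj₁) 0)) w0)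
    (H0.map ((t.truncLEι 0).app T.obj₁)) (𝟙 _) (H0.map oct.m₃) _
    (by rw [Category.comp_id]; exact (H0.map_comp _ _).symm)
    (by rw [Category.id_comp, ← Functor.map_comp]; exact congrArg H0.map oct.comm₃)

end Abelian

end Groth.Agent.Lib.TStructureHeart.Basic
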