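import Mathlib.CategoryTheory.Triangulated.TStructure.Heart
import Mathlib.CategoryTheory.Triangulated.TStructure.TruncLEGT
import Mathlib.CategoryTheory.Triangulated.Subcategory
import Mathlib.CategoryTheory.Localization.CalculusOfFractions

/-!
# The t-structure on a Verdier quotient
-/

universe v u v' u'

open CategoryTheory CategoryTheory.Limits CategoryTheory.Pretriangulated
open CategoryTheory.Triangulated

namespace Groth.Agent.Lib.TStructureHeart.Quotient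

variable {C : Type u} [Category.{v} C] [Preadditive C] [HasZeroObject C] [HasShift C ℤ]
  [∀ n : ℤ, (shiftFunctor C n).Additive] [Pretriangulated C] [IsTriangulated C]
  (t : TStructure C) (D : ObjectProperty C) [D.IsTriangulated] [D.IsClosedUnderIsomorphisms]

/-- Hypothesis: `D` is closed under cohomology objects. -/
def CohClosed : Prop := ∀ X : C, D X → ∀ n : ℤ, D ((t.truncGELE n n).obj X)

/-- Hypothesis: `D` is closed under subobjects and quotients in the heart. -/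
def HeartClosed : Prop :=
  ∀ (X Y Z : C) (f : X ⟶ Y) (g : Y ⟶ Z) (h : Z ⟶ X⟦(1 : ℤ)⟧),
    Triangle.mk f g h ∈ distTriang C → t.heart X → t.heart Y → t.heart Z → D Y → D X ∧ D Z

variable {t D}

/-- Replacing the source of a `D`-quasi-isomorphism to an object `≤ 0` by an object `≤ 0`. -/
lemma exists_trW_le_zero (h1 : CohClosed t D) (h2 : HeartClosed t D) (b : ℕ) :
    ∀ (X' X : C) (s : X' ⟶ X), D.trW s → t.IsLE X' b → t.IsLE X 0 →
      ∃ (W : C) (r : W ⟶ X'), t.IsLE W 0 ∧ D.trW r := by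
  induction b with
  | zero => exact fun X' _ _ _ h _ => ⟨X', 𝟙 _, h, MorphismProperty.id_mem _ _⟩
  | succ k ih =>
    intro X' X s hs hX' hX
    obtain ⟨K, f, δ, hT, hK⟩ := (D.trW_iff' s).1 hs
    obtain ⟨b, hb⟩ : ∃ b : ℤ, b = ((k + 1 : ℕ) : ℤ) := ⟨_, rfl⟩
    rw [← hb] at hX'
    have hb1 : 1 ≤ b := by omega
    have hK_le : t.IsLE K b := by
      have := t.isLE_shift X 0 (-1) 1 (by norm_num)
      exact t.isLE₂ _ (inv_rot_of_distTriang _ hT) b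
        (show t.IsLE (X⟦(-1 : ℤ)⟧) b from t.isLE_of_le _ 1 b) hX'
    let φ := (t.truncGE b).map f
    obtain ⟨Z, g, h, hφ⟩ := distinguished_cocone_triangle φ
    have hK1 : t.IsLE (((t.truncGE b).obj K)⟦(1 : ℤ)⟧) (b - 1) :=
      t.isLE_shift _ b 1 (b - 1) (by omega)
    have hK1' : t.IsGE (((t.truncGE b).obj K)⟦(1 : ℤ)⟧) (b - 1) :=
      t.isGE_shift _ b 1 (b - 1) (by omega)
    have hZle : t.IsLE Z (b - 1) := by
      rw [t.isLE_iff_orthogonal (b - 1) b (by omega)]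
      intro P a hP
      have e1 : (t.truncGEπ b).app X' ≫ g ≫ a = 0 := by
        have e2 : f ≫ (t.truncGEπ b).app X' ≫ g ≫ a = 0 := by
          have : f ≫ (t.truncGEπ b).app X' = (t.truncGEπ b).app K ≫ φ :=
            (t.truncGEπ b).naturality f
          have h0 : φ ≫ g = 0 := comp_distTriang_mor_zero₁₂ _ hφ
          rw [reassoc_of% this, reassoc_of% h0, zero_comp, comp_zero]
        obtain ⟨c, hc⟩ : ∃ c : X ⟶ P, (t.truncGEπ b).app X' ≫ g ≫ a = s ≫ c :=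
          Triangle.yoneda_exact₂ _ hT _ e2
        rw [hc, t.zero c 0 b (by omega), comp_zero]
      have e3 : g ≫ a = 0 := t.from_truncGE_obj_ext (by rw [e1, comp_zero])
      obtain ⟨c, hc⟩ : ∃ c : ((t.truncGE b).obj K)⟦(1 : ℤ)⟧ ⟶ P, a = h ≫ c :=
        Triangle.yoneda_exact₃ _ hφ a e3
      rw [hc, t.zero c (b - 1) b (by omega), comp_zero]
    have hZge : t.IsGE Z (b - 1) := t.isGE₂ _ (rot_of_distTriang _ hφ) (b - 1)
      (show t.IsGE ((t.truncGE b).obj X') (b - 1) from t.isGE_of_ge _ (b - 1) b) hK1'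
    have hZm : t.IsLE (Z⟦(-1 : ℤ)⟧) b ∧ t.IsGE (Z⟦(-1 : ℤ)⟧) b :=
      ⟨t.isLE_shift _ (b - 1) (-1) b (by omega), t.isGE_shift _ (b - 1) (-1) b (by omega)⟩
    have hheart : ∀ M : C, t.IsLE M b → t.IsGE M b → t.heart (M⟦b⟧) := fun M _ _ => by
      rw [t.mem_heart_iff]
      exact ⟨t.isLE_shift M b b 0 (by omega), t.isGE_shift M b b 0 (by omega)⟩
    have hDK : D ((t.truncGE b).obj K) :=
      D.prop_of_iso ((t.truncGE b).mapIso (asIso ((t.truncLEι b).app K))) (h1 K hK b)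
    have hT2 := Triangle.shift_distinguished _ (inv_rot_of_distTriang _ hφ) b
    have hD : D (((t.truncGE b).obj X')⟦b⟧) :=
      (h2 _ _ _ _ _ _ hT2 (hheart _ hZm.1 hZm.2)
        (hheart ((t.truncGE b).obj K) inferInstance inferInstance)
        (hheart ((t.truncGE b).obj X') inferInstance inferInstance) (D.le_shift b _ hDK)).2
    have hD' : D ((t.truncGE b).obj X') :=
      D.prop_of_iso ((shiftEquiv C b).unitIso.symm.app _) (D.le_shift (-b) _ hD)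
    have hι : D.trW ((t.truncLTι b).app X') :=
      ObjectProperty.trW.mk D (t.triangleLTGE_distinguished b X') hD'
    have hle : t.IsLE ((t.truncLT b).obj X') k := t.isLE_truncLT_obj X' b k (by omega)
    obtain ⟨W, r, hW, hr⟩ := ih _ X ((t.truncLTι b).app X' ≫ s)
      (MorphismProperty.comp_mem _ _ _ hι hs) hle hX
    exact ⟨W, r ≫ (t.truncLTι b).app X', hW, MorphismProperty.comp_mem _ _ _ hr hι⟩

variable {E : Type u'} [Category.{v'} E] [Preadditive E] [HasZeroObject E] [HasShift E ℤ]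
  [∀ n : ℤ, (shiftFunctor E n).Additive] [Pretriangulated E]
  (q : C ⥤ E) [q.CommShift ℤ] [q.IsTriangulated] [q.IsLocalization D.trW]

lemma eq_zero_of_hom (hb : ∀ X : C, t.bounded X) (h1 : CohClosed t D) (h2 : HeartClosed t D)
    {X Y : C} (hX : t.IsLE X 0) (hY : t.IsGE Y 1) (f : q.obj X ⟶ q.obj Y) : f = 0 := by
  obtain ⟨φ, hφ⟩ := Localization.exists_rightFraction q D.trW f
  obtain ⟨n, hn⟩ := (hb φ.X').2
  have : t.IsLE φ.X' (n.toNat : ℤ) := t.isLE_of_le φ.X' n _ (Int.self_le_toNat n)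
  obtain ⟨W, r, hW, hr⟩ := exists_trW_le_zero h1 h2 n.toNat _ _ φ.s φ.hs this hX
  have h0 : r ≫ φ.f = 0 := t.zero _ 0 1
  have := Localization.inverts q D.trW r hr
  have := Localization.inverts q D.trW φ.s φ.hs
  rw [← cancel_epi (q.map φ.s), ← cancel_epi (q.map r), hφ, comp_zero, comp_zero,
    MorphismProperty.RightFraction.map_s_comp_map, ← q.map_comp, h0, q.map_zero]

/-- The t-structure on the quotient. -/
def tStr (hb : ∀ X : C, t.bounded X) (h1 : CohClosed t D) (h2 : HeartClosed t D) : TStructure E where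
  le n := fun Y => ∃ X : C, t.IsLE X n ∧ Nonempty (q.obj X ≅ Y)
  ge n := fun Y => ∃ X : C, t.IsGE X n ∧ Nonempty (q.obj X ≅ Y)
  le_isClosedUnderIsomorphisms n :=
    ⟨fun e ⟨X, hX, ⟨e'⟩⟩ => ⟨X, hX, ⟨e' ≪≫ e⟩⟩⟩
  ge_isClosedUnderIsomorphisms n :=
    ⟨fun e ⟨X, hX, ⟨e'⟩⟩ => ⟨X, hX, ⟨e' ≪≫ e⟩⟩⟩
  le_shift n a n' h := fun Y ⟨X, hX, ⟨e⟩⟩ =>
    ⟨X⟦a⟧, t.isLE_shift X n a n' h,
      ⟨(q.commShiftIso a).app X ≪≫ (shiftFunctor E a).mapIso e⟩⟩
  ge_shift n a n' h := fun Y ⟨X, hX, ⟨e⟩⟩ =>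
    ⟨X⟦a⟧, t.isGE_shift X n a n' h,
      ⟨(q.commShiftIso a).app X ≪≫ (shiftFunctor E a).mapIso e⟩⟩
  zero' := fun Y Y' f ⟨X, hX, ⟨e⟩⟩ ⟨X', hX', ⟨e'⟩⟩ => by
    have := eq_zero_of_hom q hb h1 h2 hX hX' (e.hom ≫ f ≫ e'.inv)
    rw [← cancel_epi e.hom, ← cancel_mono e'.inv, Category.assoc, this, comp_zero, zero_comp]
  le_zero_le := fun Y ⟨X, hX, e⟩ => ⟨X, t.isLE_of_le X 0 1, e⟩
  ge_one_le := fun Y ⟨X, hX, e⟩ => ⟨X, t.isGE_of_ge X 0 1, e⟩
  exists_triangle_zero_one Y := by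
    have := Localization.essSurj q D.trW
    obtain ⟨A, B, hA, hB, f, g, h, hT⟩ := t.exists_triangle (q.objPreimage Y) 0 1 rfl
    let e := q.objObjPreimageIso Y
    refine ⟨q.obj A, q.obj B, ⟨A, ⟨hA⟩, ⟨Iso.refl _⟩⟩, ⟨B, ⟨hB⟩, ⟨Iso.refl _⟩⟩,
      q.map f ≫ e.hom, e.inv ≫ q.map g, q.map h ≫ (q.commShiftIso (1 : ℤ)).hom.app A,
      isomorphic_distinguished _ (q.map_distinguished _ hT) _ ?_⟩
    refine Triangle.isoMk _ _ (Iso.refl _) e.symm (Iso.refl _) ?_ ?_ ?_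
    · change (q.map f ≫ e.hom) ≫ e.inv = 𝟙 _ ≫ q.map f
      simp
    · change (e.inv ≫ q.map g) ≫ 𝟙 _ = e.inv ≫ q.map g
      simp
    · change (q.map h ≫ (q.commShiftIso (1 : ℤ)).hom.app A) ≫ (𝟙 (q.obj A))⟦(1 : ℤ)⟧' =
        𝟙 _ ≫ q.map h ≫ (q.commShiftIso (1 : ℤ)).hom.app A
      simp

variable {q}

lemma eq_tStr (hb : ∀ X : C, t.bounded X) (h1 : CohClosed t D) (h2 : HeartClosed t D)
    (t'' : TStructure E) (hle : ∀ (X : C) (n : ℤ), t.IsLE X n → t''.IsLE (q.obj X) n)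
    (hge : ∀ (X : C) (n : ℤ), t.IsGE X n → t''.IsGE (q.obj X) n) :
    t'' = tStr q hb h1 h2 := by
  let t' := tStr q hb h1 h2
  have hle' : ∀ (Y : E) (n : ℤ), t'.IsLE Y n → t''.IsLE Y n := fun Y n hY => by
    obtain ⟨X, hX, ⟨e⟩⟩ := hY.le
    have := hle X n hX
    exact t''.isLE_of_iso e n
  have hge' : ∀ (Y : E) (n : ℤ), t'.IsGE Y n → t''.IsGE Y n := fun Y n hY => by
    obtain ⟨X, hX, ⟨e⟩⟩ := hY.ge
    have := hge X n hX
    exact t''.isGE_of_iso e n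
  have hle'' : ∀ (Y : E) (n : ℤ), t''.IsLE Y n → t'.IsLE Y n := fun Y n hY => by
    rw [t'.isLE_iff_isZero_truncGE_obj n (n + 1) rfl]
    have hA := hle' _ n (t'.isLE_truncLT_obj Y (n + 1) n (by omega))
    have hB := hge' ((t'.truncGE (n + 1)).obj Y) (n + 1) inferInstance
    have hT := t'.triangleLTGE_distinguished (n + 1) Y
    rw [IsZero.iff_id_eq_zero]
    obtain ⟨c, hc⟩ : ∃ c : ((t'.truncLT (n + 1)).obj Y)⟦(1 : ℤ)⟧ ⟶ (t'.truncGE (n + 1)).obj Y,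
        𝟙 _ = (t'.truncGEδLT (n + 1)).app Y ≫ c :=
      Triangle.yoneda_exact₃ _ hT (𝟙 _) (by
        exact (Category.comp_id _).trans
          (t''.zero (X := Y) (Y := (t'.truncGE (n + 1)).obj Y) _ n (n + 1)))
    have := t''.isLE_shift ((t'.truncLT (n + 1)).obj Y) n 1 (n - 1)
    rw [hc, t''.zero c (n - 1) (n + 1), comp_zero]
  have hge'' : ∀ (Y : E) (n : ℤ), t''.IsGE Y n → t'.IsGE Y n := fun Y n hY => by
    rw [t'.isGE_iff_isZero_truncLT_obj n]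
    have hA := hle' ((t'.truncLT n).obj Y) (n - 1) inferInstance
    have hB := hge' ((t'.truncGE n).obj Y) n inferInstance
    have hT := t'.triangleLTGE_distinguished n Y
    rw [IsZero.iff_id_eq_zero]
    have := t''.isGE_shift ((t'.truncGE n).obj Y) n (-1) (n + 1)
    obtain ⟨c, hc⟩ : ∃ c : (t'.truncLT n).obj Y ⟶ ((t'.truncGE n).obj Y)⟦(-1 : ℤ)⟧,
        𝟙 _ = c ≫ _ :=
      Triangle.coyoneda_exact₂ _ (inv_rot_of_distTriang _ hT) (𝟙 _) (by
        exact (Category.id_comp _).trans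
          (t''.zero (X := (t'.truncLT n).obj Y) (Y := Y) _ (n - 1) n))
    rw [hc, t''.zero c (n - 1) (n + 1), zero_comp]
  have e1 : t''.le = t'.le := funext fun n => funext fun Y => propext
    ⟨fun h => (hle'' Y n ⟨h⟩).le, fun h => (hle' Y n ⟨h⟩).le⟩
  have e2 : t''.ge = t'.ge := funext fun n => funext fun Y => propext
    ⟨fun h => (hge'' Y n ⟨h⟩).ge, fun h => (hge' Y n ⟨h⟩).ge⟩
  cases t''
  change _ = t'
  generalize t' = T at e1 e2
  cases T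
  simp only at e1 e2
  subst e1 e2
  rfl

theorem exists_tStructure (hb : ∀ X : C, t.bounded X) (h1 : CohClosed t D) (h2 : HeartClosed t D) :
    ∃ t' : TStructure E,
      (∀ (X : C) (n : ℤ), t.IsLE X n → t'.IsLE (q.obj X) n) ∧
      (∀ (X : C) (n : ℤ), t.IsGE X n → t'.IsGE (q.obj X) n) ∧
      (∀ (Y : E) (n : ℤ), t'.IsLE Y n ↔ ∃ X : C, t.IsLE X n ∧ Nonempty (q.obj X ≅ Y)) ∧
      (∀ (Y : E) (n : ℤ), t'.IsGE Y n ↔ ∃ X : C, t.IsGE X n ∧ Nonempty (q.obj X ≅ Y)) ∧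
      ∀ t'' : TStructure E,
        (∀ (X : C) (n : ℤ), t.IsLE X n → t''.IsLE (q.obj X) n) →
        (∀ (X : C) (n : ℤ), t.IsGE X n → t''.IsGE (q.obj X) n) → t'' = t' :=
  ⟨tStr q hb h1 h2, fun X n hX => ⟨⟨X, hX, ⟨Iso.refl _⟩⟩⟩,
    fun X n hX => ⟨⟨X, hX, ⟨Iso.refl _⟩⟩⟩, fun _ _ => ⟨fun h => h.le, fun h => ⟨h⟩⟩,
    fun _ _ => ⟨fun h => h.ge, fun h => ⟨h⟩⟩, fun t'' => eq_tStr hb h1 h2 t''⟩

end Groth.Agent.Lib.TStructureHeart.Quotient
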